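import Cfsg.Agent.Lib.Sporadic.OutCert.Co1.Defs

/-!
The checks hold.
-/

set_option autoImplicit false
set_option maxRecDepth 100000
set_option maxHeartbeats 0

namespace CfsgLib.Sporadic.OutCert.Co1

open Cfsg CfsgLib.Schur.Tails.Mat CfsgLib.Schur.Sporadic.Co1

theorem slp1_ok : slpM 24 5 tab1 words1 = true ∧ tab1.take 5 = codes ∧
    at1.map (fun i => tab1.getD i (oneM 24)) = [kN, kB, kC] := by decide +kernel

theorem slp2_ok : slpM 24 4 tab2 words2 = true ∧ tab2.take 4 = gk ∧
    at2.map (fun i => tab2.getD i (oneM 24)) = codes.tail := by decide +kernel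

theorem rel_ok : prodM 24 gk [1, 0] = prodM 24 gk [0, 0, 1] ∧ prodM 24 gk [1, 2] = prodM 24 gk [2, 1] ∧
    prodM 24 gk [1, 3] = prodM 24 gk [3, 1] ∧ prodM 24 gk [2, 2] = oneM 24 ∧ prodM 24 gk [3, 3] = oneM 24 ∧
    prodM 24 gk (List.replicate 23 0) = oneM 24 ∧ prodM 24 gk (List.replicate 11 1) = oneM 24 := by decide +kernel

theorem fix_ok : xFix < 2 ^ 24 ∧ mapp 24 (prodM 24 gk [0]) xFix = xFix ∧ mapp 24 (prodM 24 gk [1]) xFix = xFix ∧
    elWords.map (fun w => mapp 24 (prodM 24 gk w) xFix) = sixFix ∧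
    [[2, 3, 2, 3], [3, 2, 3, 2]].all (fun w => !(mapp 24 (prodM 24 gk w) xFix == xFix)) = true ∧
    ((List.range 24).any fun i => !(mapp 24 (prodM 24 gk [0]) (2 ^ i) == 2 ^ i)) = true ∧ ((List.range 24).any fun i => !(mapp 24 (prodM 24 gk [1]) (2 ^ i) == 2 ^ i)) = true :=
  by decide +kernel

theorem span_ok : spanOK (projM 0 23) spanA = true ∧ spanOK (projM 1 11) spanN = true := by decide +kernel

theorem reps_ok : repsOK spanA repsA [xFix] = true ∧ repsOK spanN repsN sixFix = true ∧ spanA.getD 3 0 = xFix ∧ normC (repsA.getD 3 []) = 32 := by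
  decide +kernel

theorem test_ok : testWords.all (fun t => prodM 24 gk (powW t) == oneM 24) = true ∧
    [1, 5].all (fun m => (List.range 3).all fun i => (List.range 3).all fun j =>
      (decide (m = 1) && decide (i = 0) && decide (j = 1)) ||
        testWords.any fun t => (List.range 24).any fun b =>
          !(mapp 24 (prodM 24 (subM m i j) (powW t)) (2 ^ b) == 2 ^ b)) = true := by decide +kernel

end CfsgLib.Sporadic.OutCert.Co1
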