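import Cfsg.Agent.Lib.Sporadic.OutCert.Co1.Data
import Cfsg.Agent.Lib.Schur.Co1.Gens

/-!
The checks on the data for the automorphisms of the first Conway group.
-/

set_option autoImplicit false

namespace CfsgLib.Sporadic.OutCert.Co1

open Cfsg CfsgLib.Schur.Tails.Mat CfsgLib.Schur.Sporadic.Co1

/-- The matrices of the four generators. -/
noncomputable def gk : List ℕ := [codes.getD 0 (oneM 24), kN, kB, kC]

/-- The three involutions commuting with the element of order 11. -/
noncomputable def invM : List ℕ := [kB, kC, prodM 24 gk [2, 3, 2]]

/-- The matrices of the substituted generators. -/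
noncomputable def subM (m i j : ℕ) : List ℕ :=
  [prodM 24 gk (List.replicate m 0), kN, invM.getD i (oneM 24), invM.getD j (oneM 24)]

/-- A word raised to a power. -/
def powW (t : List ℕ × ℕ) : List ℕ := (List.replicate t.2 t.1).flatten

/-- The sum of the powers of a matrix. -/
noncomputable def projM (g : ℕ) : ℕ → ℕ :=
  Nat.rec 0 (fun i ih => Nat.xor (prodM 24 gk (List.replicate i g)) ih)

/-- A list of classes contains zero and is stable under adding the columns of a matrix. -/
noncomputable def spanOK (P : ℕ) (S : List ℕ) : Bool :=
  S.contains 0 && (List.range 24).all fun i => S.all fun s => S.contains (Nat.xor (lk 24 P i) s)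

/-- The square norm of a combination of the basis. -/
def normC (c : List ℤ) : ℤ := ∑ p : GolayPt, combI c p ^ 2

/-- The short vectors represent the classes, and only listed classes have minimal vectors. -/
def repsOK (S : List ℕ) (R : List (List ℤ)) (T : List ℕ) : Bool :=
  decide (S.length = R.length) && (List.range S.length).all fun k =>
    (bitsI (R.getD k []) == S.getD k 0) && (decide (normC (R.getD k []) ≤ 64) &&
      (!(normC (R.getD k []) == 32) || T.contains (S.getD k 0)))

end CfsgLib.Sporadic.OutCert.Co1
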