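import Cfsg.Agent.Lib.Schur.Co1.Gens
import Cfsg.Agent.Lib.SmallGroups.LeechGroup

/-!
The five automorphisms generate the automorphism group of the rank 24 lattice.
-/

set_option autoImplicit false
set_option maxRecDepth 10000

namespace CfsgLib.Sporadic.OutCert.Co1

open Cfsg CfsgLib.SmallGroups CfsgLib.SmallGroups.Golay CfsgLib.SmallGroups.GolayOctads
  CfsgLib.SmallGroups.M24Group CfsgLib.SmallGroups.LeechGroup CfsgLib.ThreeTransp
open CfsgLib.Schur.Sporadic.Co1 (a0 a1 a2 a3 a4)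

theorem perm_mul (σ τ : Equiv.Perm GolayPt) (hσ : σ ∈ M24) (hτ : τ ∈ M24) :
    LeechGen.perm (σ * τ) (mul_mem hσ hτ) = LeechGen.perm τ hτ * LeechGen.perm σ hσ := by
  refine Subtype.ext (Equiv.ext fun v => Subtype.ext (funext fun i => ?_))
  rfl

theorem perm_one : LeechGen.perm 1 (one_mem M24) = 1 := by
  refine Subtype.ext (Equiv.ext fun v => Subtype.ext (funext fun i => ?_))
  rfl

theorem perm_mem {K : Subgroup Co0} (h0 : a0 ∈ K) (h1 : a1 ∈ K) (h2 : a2 ∈ K) {σ : Equiv.Perm GolayPt}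
    (hσ : σ ∈ M24) : LeechGen.perm σ hσ ∈ K := by
  have key : ∀ τ ∈ genGroup, ∃ h : τ ∈ M24, LeechGen.perm τ h ∈ K := by
    intro τ hτ
    induction hτ using Subgroup.closure_induction with
    | mem x hx =>
      rcases hx with rfl | rfl | rfl
      · exact ⟨sgen_mem 0, h0⟩
      · exact ⟨sgen_mem 1, h1⟩
      · exact ⟨sgen_mem 2, h2⟩
    | one => exact ⟨one_mem _, by rw [perm_one]; exact one_mem K⟩
    | mul x y _ _ hx hy =>
      obtain ⟨px, hx⟩ := hx
      obtain ⟨py, hy⟩ := hy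
      exact ⟨mul_mem px py, by rw [perm_mul x y px py]; exact mul_mem hy hx⟩
    | inv x _ hx =>
      obtain ⟨px, hx⟩ := hx
      refine ⟨inv_mem px, ?_⟩
      rw [show LeechGen.perm x⁻¹ (inv_mem px) = (LeechGen.perm x px)⁻¹ from
        eq_inv_of_mul_eq_one_left ((perm_mul x x⁻¹ px (inv_mem px)).symm.trans (by
          refine Subtype.ext (Equiv.ext fun v => Subtype.ext (funext fun i => ?_))
          show (v : GolayPt → ℤ) ((x * x⁻¹) i) = _
          rw [mul_inv_cancel]; rfl))]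
      exact inv_mem hx
  exact (key σ (genGroup_eq.symm ▸ hσ)).2

theorem closure_five : Subgroup.closure ({a0, a1, a2, a3, a4} : Set Co0) = ⊤ := by
  set K := Subgroup.closure ({a0, a1, a2, a3, a4} : Set Co0) with hK
  have hm : ∀ g ∈ ({a0, a1, a2, a3, a4} : Set Co0), g ∈ K := fun g hg => Subgroup.subset_closure hg
  have hperm : ∀ (σ : Equiv.Perm GolayPt) (hσ : σ ∈ M24), LeechGen.perm σ hσ ∈ K := fun σ hσ =>
    perm_mem (hm a0 (by simp)) (hm a1 (by simp)) (hm a2 (by simp)) hσ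
  let P : Subgroup monoSub := K.subgroupOf monoSub
  have hmap : P.map LeechGroup.permOf = ⊤ := by
    refine eq_top_iff.2 fun σ _ => ?_
    refine ⟨⟨LeechMonomial.mono (σ, ⟨∅, LeechReach.empty_mem_CS⟩), mono_mem _⟩, ?_, LeechGroup.permOf_spec (p := (σ, _)) rfl⟩
    have e : LeechMonomial.mono (σ, ⟨∅, LeechReach.empty_mem_CS⟩) = LeechGen.perm _ (inv_mem σ.2) := by
      refine Subtype.ext (Equiv.ext fun v => Subtype.ext (funext fun i => ?_))
      show ((LeechMonomial.mono (σ, ⟨∅, LeechReach.empty_mem_CS⟩) • v : leechLattice) : GolayPt → ℤ) i = _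
      rw [LeechMonomial.mono_apply]
      simp [signedPerm]
      rfl
    show LeechMonomial.mono (σ, ⟨∅, LeechReach.empty_mem_CS⟩) ∈ K
    rw [e]
    exact hperm _ _
  have hinv : GolayModule.Inv (words P) := by
    rintro g hg w ⟨hw, hw'⟩
    obtain ⟨h, hP, hh⟩ : ∃ h ∈ P, LeechGroup.permOf h = (⟨g, hg⟩ : M24)⁻¹ := by
      have : (⟨g, hg⟩ : M24)⁻¹ ∈ P.map LeechGroup.permOf := hmap.symm ▸ Subgroup.mem_top _
      exact Subgroup.mem_map.1 this
    have hc := mul_mem (mul_mem hP hw') (inv_mem hP)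
    rw [sgn_conj, hh] at hc
    refine ⟨LeechBasic.comp_mem_code hg hw, ?_⟩
    convert hc using 2
    refine Subtype.ext (funext fun i => ?_)
    simp [moved]
  have hw0 : word (bas 0) ∈ words P := by
    refine ⟨word_bas_mem (by norm_num), ?_⟩
    show (sgn ⟨word (bas 0), word_bas_mem (by norm_num)⟩ : Co0) ∈ K
    rw [show (sgn ⟨word (bas 0), word_bas_mem (by norm_num)⟩ : Co0) = a3 from ?_]
    · exact hm a3 (by simp)
    refine Subtype.ext (Equiv.ext fun v => Subtype.ext (funext fun i => ?_))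
    show ((((sgn _ : monoSub) : Co0) • v : leechLattice) : GolayPt → ℤ) i = ((a3 • v : leechLattice) : GolayPt → ℤ) i
    rw [sgn_apply, CfsgLib.Schur.Sporadic.Co1.a3, LeechGen.sign_apply, ite_not]
    rfl
  have hall : ∀ w, sgn w ∈ P := by
    rcases GolayModule.le_code hinv (fun w hw => hw.1) with hW | hW
    · exfalso
      have := hW _ hw0
      have hne : ∃ p q, word (bas 0) p ≠ word (bas 0) q := by decide +kernel
      obtain ⟨p, q, h⟩ := hne
      exact h (this p q)
    · intro w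
      obtain ⟨h, h'⟩ : (w : GolayPt → ZMod 2) ∈ words P := by rw [hW]; exact w.2
      exact h'
  have htop := eq_top_of_sgn P hall hmap
  refine eq_top_of_le (fun g hg => ?_) (hm a4 (by simp))
  have : (⟨g, hg⟩ : monoSub) ∈ P := htop.symm ▸ Subgroup.mem_top _
  exact this

end CfsgLib.Sporadic.OutCert.Co1
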