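import Cfsg.Agent.Lib.Sporadic.OutCert.Co2.Main
import Cfsg.Agent.Lib.Sporadic.OutCert.Co1.Defs
import Cfsg.Agent.Lib.SmallGroups.LeechSimple

/-!
The stabiliser of a class of minimal vectors is the second Conway group, where elements of order 11 and 23 are
self-centralising.
-/

set_option autoImplicit false
set_option maxRecDepth 10000

namespace CfsgLib.Sporadic.OutCert.Co1

open Cfsg CfsgLib.SmallGroups CfsgLib.SmallGroups.Golay CfsgLib.Schur.Tails.Mat
open CfsgLib.Schur.Sporadic.Co1 (kap comb row combI bitsI num numEquiv psi rep0 rep0_apply)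

/-- The number of the class of a vector. -/
noncomputable def cls (u : leechLattice) : Fin (2 ^ 24) := numEquiv (kap u)

theorem psi_cls (g : Co0) (u : leechLattice) : psi (g : Spor.Co1) (cls u) = cls (g • u) := by
  refine Fin.ext ?_
  show (rep0 g (cls u) : ℕ) = _
  rw [rep0_apply, cls, Equiv.symm_apply_apply, Schur.Sporadic.Co1.actV,
    Schur.Sporadic.Co1.kap_smul_congr g (Schur.Sporadic.Co1.kap_lift (kap u))]
  rfl

theorem cls_comb (c : List ℤ) : (cls (comb (row c)) : ℕ) = bitsI c := by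
  show num (kap (comb (row c))) = _
  rw [Schur.Sporadic.Co1.kap_comb, bitsI, num]
  congr 1
  funext i
  simp only [ne_eq, ZMod.intCast_zmod_eq_zero_iff_dvd, decide_eq_decide]
  omega

theorem norm_comb (c : List ℤ) : sqNorm ((comb (row c) : leechLattice) : GolayPt → ℤ) = normC c := by
  rw [sqNorm, normC]
  exact Finset.sum_congr rfl fun p _ => by rw [Schur.Sporadic.Co1.coe_comb]

theorem neg_smul' (g : Co0) (v : leechLattice) : g • (-v) = -(g • v) :=
  map_neg (AddMonoidHom.mk' (g : Equiv.Perm leechLattice) g.2.1) v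

/-- Congruent vectors of small norm are equal or opposite. -/
theorem eq_or_neg {u w : leechLattice} (h : cls u = cls w) (hu : sqNorm (u : GolayPt → ℤ) = 32)
    (hw : sqNorm (w : GolayPt → ℤ) ≤ 64) : w = u ∨ w = -u := by
  have hk : kap u = kap w := numEquiv.injective h
  by_contra hne
  rw [not_or] at hne
  have big : ∀ z : leechLattice, kap z = 0 → z ≠ 0 → 128 ≤ sqNorm (z : GolayPt → ℤ) := by
    intro z hz h0
    obtain ⟨y, rfl⟩ := Schur.Sporadic.Co1.exists_half_of_kap hz
    have hy : (y : GolayPt → ℤ) ≠ 0 := fun e => h0 (by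
      have : y = 0 := Subtype.ext e
      rw [this, add_zero])
    have h32 := LeechBasic.thirtytwo_le (LeechBasic.mem_lattice.1 y.2) hy
    have e : sqNorm (((y + y : leechLattice) : GolayPt → ℤ)) = 4 * sqNorm (y : GolayPt → ℤ) := by
      simp only [sqNorm, Finset.mul_sum, AddSubgroup.coe_add, Pi.add_apply]
      exact Finset.sum_congr rfl fun p _ => by ring
    omega
  have h1 := big (w - u) (by rw [map_sub, hk, sub_self]) (sub_ne_zero.2 hne.1)
  have h2 := big (w + u) (by rw [map_add, hk, Schur.Sporadic.Co1.add_self_zero])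
    (fun e => hne.2 (eq_neg_of_add_eq_zero_left e))
  have e : sqNorm (((w - u : leechLattice) : GolayPt → ℤ)) + sqNorm (((w + u : leechLattice) : GolayPt → ℤ)) =
      2 * sqNorm (w : GolayPt → ℤ) + 2 * sqNorm (u : GolayPt → ℤ) := by
    simp only [sqNorm, Finset.mul_sum, ← Finset.sum_add_distrib, AddSubgroup.coe_add, AddSubgroup.coe_sub,
      Pi.add_apply, Pi.sub_apply]
    exact Finset.sum_congr rfl fun p _ => by ring
  omega

/-- The negation. -/
noncomputable def negG : Co0 := ⟨LeechCenter.negLat, LeechCenter.negLat_mem⟩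

theorem negG_smul (v : leechLattice) : negG • v = -v := rfl

theorem negG_central : negG ∈ Subgroup.center Co0 := by
  rw [Subgroup.mem_center_iff]
  intro g
  refine Subtype.ext (Equiv.ext fun v => ?_)
  show g • (negG • v) = negG • (g • v)
  rw [negG_smul, negG_smul, neg_smul']

variable {u : leechLattice}

/-- The map of the stabiliser to the quotient. -/
noncomputable def toQ (u : leechLattice) : MulAction.stabilizer Co0 u →* Spor.Co1 :=
  (QuotientGroup.mk' (Subgroup.center Co0)).comp (Subgroup.subtype _)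

theorem toQ_injective (hu : sqNorm (u : GolayPt → ℤ) = 32) : Function.Injective (toQ u) := by
  rw [← MonoidHom.ker_eq_bot_iff, eq_bot_iff]
  intro s hs
  rw [MonoidHom.mem_ker] at hs
  have hc : (s : Co0) ∈ Subgroup.center Co0 := (QuotientGroup.eq_one_iff _).1 hs
  rw [Subgroup.mem_bot]
  rcases LeechCenter.central_cases hc with h | h
  · exact Subtype.ext (Subtype.ext h)
  · exfalso
    have h1 : (s : Co0) • u = u := s.2
    have h2 : (s : Co0) • u = -u := congrFun (congrArg DFunLike.coe h) u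
    have h3 : (u : GolayPt → ℤ) = 0 := funext fun p => by
      have := congrFun (congrArg Subtype.val (h1.symm.trans h2)) p
      simp only [AddSubgroup.coe_neg, Pi.neg_apply] at this
      show (u : GolayPt → ℤ) p = 0
      omega
    rw [h3] at hu
    simp [sqNorm] at hu

theorem exists_stab (hu : sqNorm (u : GolayPt → ℤ) = 32) {q : Spor.Co1} (hq : psi q (cls u) = cls u) :
    ∃ s, toQ u s = q := by
  induction q using QuotientGroup.induction_on with
  | H g =>
    rw [psi_cls] at hq
    rcases eq_or_neg (u := u) (w := g • u) hq.symm hu (le_of_eq_of_le ((g.2.2 u).trans hu) (by norm_num)) with h | h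
    · exact ⟨⟨g, h⟩, rfl⟩
    · refine ⟨⟨negG * g, by rw [MulAction.mem_stabilizer_iff, mul_smul, h, negG_smul, neg_neg]⟩, ?_⟩
      show ((negG * g : Co0) : Spor.Co1) = (g : Spor.Co1)
      rw [QuotientGroup.mk_mul, (QuotientGroup.eq_one_iff negG).2 negG_central, one_mul]

theorem cent_conj {G : Type} [Group G] [Finite G] {p : ℕ} [Fact p.Prime] (hp2 : ¬ p ^ 2 ∣ Nat.card G) {b : G}
    (hb : orderOf b = p) (hcent : ∀ c : G, Commute c b → c ∈ Subgroup.zpowers b) {a c : G} (ha : orderOf a = p)
    (hc : Commute c a) : c ∈ Subgroup.zpowers a := by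
  obtain ⟨g, j, hj0, hj, hg⟩ := exists_conj_pow hp2 hb ha
  have hcop : Nat.Coprime j p :=
    ((Fact.out : p.Prime).coprime_iff_not_dvd.2 (Nat.not_dvd_of_pos_of_lt hj0 hj)).symm
  obtain ⟨k, hk⟩ := Nat.exists_mul_mod_eq_one_of_coprime hcop (Fact.out : p.Prime).one_lt
  have hbk : (g * a * g⁻¹) ^ k = b := by
    rw [hg, ← pow_mul, ← pow_mod_orderOf, hb, hk.2, pow_one]
  have hmem : g * c * g⁻¹ ∈ Subgroup.zpowers b := by
    refine hcent _ ?_
    have : Commute (g * c * g⁻¹) (g * a * g⁻¹) := by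
      show (g * c * g⁻¹) * (g * a * g⁻¹) = (g * a * g⁻¹) * (g * c * g⁻¹)
      rw [conj_mul, conj_mul, hc.eq]
    rw [← hbk]
    exact this.pow_right k
  obtain ⟨z, hz⟩ := hmem
  refine ⟨(k : ℤ) * z, ?_⟩
  simp only at hz ⊢
  rw [← hbk, conj_pow, conj_zpow, ← zpow_natCast, ← zpow_mul] at hz
  exact mul_left_cancel (mul_right_cancel hz)

theorem cent_stab (hu : sqNorm (u : GolayPt → ℤ) = 32) {p : ℕ} (hp : p = 11 ∨ p = 23)
    {a c : Spor.Co1} (hau : psi a (cls u) = cls u) (hcu : psi c (cls u) = cls u) (ha : orderOf a = p)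
    (hc : Commute c a) : c ∈ Subgroup.zpowers a := by
  obtain ⟨s, rfl⟩ := exists_stab hu hau
  obtain ⟨t, rfl⟩ := exists_stab hu hcu
  rw [orderOf_injective (toQ u) (toQ_injective hu)] at ha
  have hcomm : Commute t s := toQ_injective hu (by rw [map_mul, map_mul]; exact hc.eq)
  suffices t ∈ Subgroup.zpowers s by
    obtain ⟨z, hz⟩ := this
    exact ⟨z, by rw [← hz]; exact (map_zpow (toQ u) s z).symm⟩
  obtain ⟨e1⟩ := Co2.H_spec.1
  obtain ⟨e2⟩ := Co2.G0_spec.1
  obtain ⟨g, hg⟩ := LeechTransitive.transitive32 LeechPairs.vV u Co2.norm_base hu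
  let e : MulAction.stabilizer Co0 u ≃* Co2.H :=
    (MulAction.stabilizerEquivStabilizer hg.symm).symm.trans (e2.symm.trans e1)
  haveI : Finite Co2.H := Nat.finite_of_card_ne_zero (by rw [Co2.H_spec.2.1]; norm_num)
  have hs : orderOf (e s) = p := by rw [MulEquiv.orderOf_eq, ha]
  have ht : Commute (e t) (e s) := hcomm.map e.toMonoidHom
  suffices e t ∈ Subgroup.zpowers (e s) by
    obtain ⟨z, hz⟩ := this
    exact ⟨z, e.injective (by rw [map_zpow]; exact hz)⟩
  rcases hp with rfl | rfl
  · haveI : Fact (Nat.Prime 11) := ⟨by norm_num⟩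
    refine cent_conj (by rw [Co2.H_spec.2.1]; norm_num) Co2.orderOf_hN (fun d hd => ?_) hs ht
    obtain ⟨i, -, rfl⟩ := Co2.cent_hN hd
    exact Subgroup.pow_mem _ (Subgroup.mem_zpowers _) i
  · haveI : Fact (Nat.Prime 23) := ⟨by norm_num⟩
    refine cent_conj (by rw [Co2.H_spec.2.1]; norm_num) Co2.orderOf_hA (fun d hd => ?_) hs ht
    obtain ⟨i, rfl⟩ := Co2.cent_hA hd
    exact Subgroup.pow_mem _ (Subgroup.mem_zpowers _) i

end CfsgLib.Sporadic.OutCert.Co1
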