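import Cfsg.Agent.Lib.Sporadic.OutCert.Co1.Check
import Cfsg.Agent.Lib.Sporadic.OutCert.Co1.Gen
import Cfsg.Agent.Lib.Sporadic.OutCert.Co1.Stab

/-!
Four generators of the first Conway group and the centralisers of those of order 23 and 11.
-/

set_option autoImplicit false
set_option maxRecDepth 10000

namespace CfsgLib.Sporadic.OutCert.Co1

open Cfsg CfsgLib.Schur.Tails CfsgLib.Schur.Tails.Mat
open CfsgLib.Schur.Sporadic.Co1 (a0 a1 a2 a3 a4 psi psi_injective comb row bitsI codes)

attribute [local irreducible] lk pkF mapp mmul tab1 tab2 kN kB kC codes spanA spanN repsA repsN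

theorem pick_of (l : List ℕ) (tab ids : List ℕ) (h : ids.map (fun i => tab.getD i (oneM 24)) = l) :
    pickM 24 tab ids l = true := by rw [pickM, h]; exact beq_self_eq_true _

theorem exists_three : ∀ i, ∃ q : Spor.Co1, RepM 24 ([kN, kB, kC].getD i (oneM 24)) (psi q) :=
  exists_pick psi (exists_slp psi (Schur.Sporadic.Co1.base_mem slp1_ok.2.1) slp1_ok.1) (pick_of _ _ _ slp1_ok.2.2)

/-- The element of order 23. -/
noncomputable def gA : Spor.Co1 := (a0 : Spor.Co1)

/-- The element of order 11. -/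
noncomputable def gN : Spor.Co1 := (exists_three 0).choose

/-- The first involution. -/
noncomputable def gB : Spor.Co1 := (exists_three 1).choose

/-- The second involution. -/
noncomputable def gC : Spor.Co1 := (exists_three 2).choose

/-- The generators by number. -/
noncomputable def yy : ℕ → Spor.Co1
  | 0 => gA
  | 1 => gN
  | 2 => gB
  | 3 => gC
  | _ => 1

theorem gk_zero : gk.getD 0 (oneM 24) = codes.getD 0 0 := by
  show codes.getD 0 (oneM 24) = codes.getD 0 0
  unfold codes
  rfl

theorem gk_succ (k : ℕ) : gk.getD (k + 1) (oneM 24) = [kN, kB, kC].getD k (oneM 24) := rfl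

theorem gk_big (n : ℕ) : gk.getD (n + 4) (oneM 24) = oneM 24 :=
  List.getD_eq_default _ _ (by simp [gk])

theorem yy_zero : yy 0 = (a0 : Spor.Co1) := rfl

theorem yy_one : yy 1 = (exists_three 0).choose := rfl

theorem yy_two : yy 2 = (exists_three 1).choose := rfl

theorem yy_three : yy 3 = (exists_three 2).choose := rfl

theorem yy_big (n : ℕ) : yy (n + 4) = 1 := rfl

theorem rep_yy : ∀ i, RepM 24 (gk.getD i (oneM 24)) (psi (yy i))
  | 0 => by rw [gk_zero, yy_zero]; exact Schur.Sporadic.Co1.rep_a0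
  | 1 => by rw [gk_succ 0, yy_one]; exact (exists_three 0).choose_spec
  | 2 => by rw [gk_succ 1, yy_two]; exact (exists_three 1).choose_spec
  | 3 => by rw [gk_succ 2, yy_three]; exact (exists_three 2).choose_spec
  | n + 4 => by rw [gk_big, yy_big, map_one]; exact rep_oneM

theorem rep_word (w : List ℕ) : RepM 24 (prodM 24 gk w) (psi (valW yy w)) := rep_prodM psi rep_yy w

theorem word_eq {v w : List ℕ} (h : prodM 24 gk v = prodM 24 gk w) : valW yy v = valW yy w := by
  refine psi_injective ((rep_word v).inj ?_)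
  rw [h]; exact rep_word w

theorem word_one {v : List ℕ} (h : prodM 24 gk v = oneM 24) : valW yy v = 1 := word_eq (w := []) h

theorem word_replicate (n i : ℕ) : valW yy (List.replicate n i) = yy i ^ n := by
  rw [valW, List.map_replicate, List.prod_replicate]

theorem word_lt {w : List ℕ} {z : ℕ} (hz : z < 2 ^ 24) :
    mapp 24 (prodM 24 gk w) z = (psi (valW yy w) ⟨z, hz⟩ : ℕ) := rep_word w ⟨z, hz⟩

theorem NA : gN * gA = gA ^ 2 * gN := by
  simpa [valW, yy, pow_two, mul_assoc] using word_eq rel_ok.1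

theorem NB : Commute gN gB := by
  show gN * gB = gB * gN
  simpa [valW, yy] using word_eq rel_ok.2.1

theorem NC : Commute gN gC := by
  show gN * gC = gC * gN
  simpa [valW, yy] using word_eq rel_ok.2.2.1

theorem BB : gB * gB = 1 := by simpa [valW, yy] using word_one rel_ok.2.2.2.1

theorem CC : gC * gC = 1 := by simpa [valW, yy] using word_one rel_ok.2.2.2.2.1

theorem A_pow : gA ^ 23 = 1 := (word_replicate 23 0).symm.trans (word_one rel_ok.2.2.2.2.2.1)

theorem N_pow : gN ^ 11 = 1 := (word_replicate 11 1).symm.trans (word_one rel_ok.2.2.2.2.2.2)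

theorem moved_ne {g : ℕ} (h : ((List.range 24).any fun i => !(mapp 24 (prodM 24 gk [g]) (2 ^ i) == 2 ^ i)) = true) :
    yy g ≠ 1 := by
  intro e
  simp only [List.any_eq_true, List.mem_range, Bool.not_eq_true', beq_eq_false_iff_ne] at h
  obtain ⟨i, hi, h⟩ := h
  refine h ?_
  rw [word_lt (Nat.pow_lt_pow_right (by norm_num) hi), show valW yy [g] = 1 by simp [valW, e], map_one]
  rfl

theorem orderOf_gA : orderOf gA = 23 :=
  haveI : Fact (Nat.Prime 23) := ⟨by norm_num⟩
  orderOf_eq_prime A_pow (moved_ne fix_ok.2.2.2.2.2.1)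

theorem orderOf_gN : orderOf gN = 11 :=
  haveI : Fact (Nat.Prime 11) := ⟨by norm_num⟩
  orderOf_eq_prime N_pow (moved_ne fix_ok.2.2.2.2.2.2)

theorem lk_xor (a b i : ℕ) : lk 24 (Nat.xor a b) i = Nat.xor (lk 24 a i) (lk 24 b i) := by
  unfold lk
  show ((a ^^^ b) >>> (24 * i)) % 2 ^ 24 = (a >>> (24 * i) % 2 ^ 24) ^^^ (b >>> (24 * i) % 2 ^ 24)
  rw [Nat.shiftRight_xor_distrib, Nat.xor_mod_two_pow]

theorem mappTo_xor_left (a b z : ℕ) : ∀ k,
    mappTo 24 (Nat.xor a b) z k = Nat.xor (mappTo 24 a z k) (mappTo 24 b z k)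
  | 0 => (Nat.xor_self 0).symm
  | k + 1 => by
    show (cond (Nat.testBit z k) (lk 24 (Nat.xor a b) k) 0) ^^^ mappTo 24 (Nat.xor a b) z k =
      ((cond (Nat.testBit z k) (lk 24 a k) 0) ^^^ mappTo 24 a z k) ^^^
        ((cond (Nat.testBit z k) (lk 24 b k) 0) ^^^ mappTo 24 b z k)
    rw [mappTo_xor_left a b z k, lk_xor]
    cases Nat.testBit z k
    · simp only [cond_false, Nat.zero_xor]; rfl
    · show (lk 24 a k ^^^ lk 24 b k) ^^^ (mappTo 24 a z k ^^^ mappTo 24 b z k) = _
      simp only [cond_true]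
      ac_rfl

theorem mappTo_code_zero (z : ℕ) : ∀ k, mappTo 24 0 z k = 0
  | 0 => rfl
  | k + 1 => by
    show (cond (Nat.testBit z k) (lk 24 0 k) 0) ^^^ mappTo 24 0 z k = 0
    rw [mappTo_code_zero z k, show lk 24 0 k = 0 by unfold lk; simp]
    cases Nat.testBit z k <;> rfl

theorem projM_apply (g z : ℕ) (hz : z < 2 ^ 24) (hfix : psi (yy g) ⟨z, hz⟩ = ⟨z, hz⟩) :
    ∀ n, mapp 24 (projM g n) z = if n % 2 = 1 then z else 0
  | 0 => by unfold mapp projM; exact mappTo_code_zero z 24
  | n + 1 => by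
    have h1 : mapp 24 (prodM 24 gk (List.replicate n g)) z = z := by
      rw [word_lt hz, word_replicate, map_pow]
      have : ((psi (yy g)) ^ n) ⟨z, hz⟩ = ⟨z, hz⟩ := by
        induction n with
        | zero => rfl
        | succ n ih => rw [pow_succ (psi (yy g)) n, Equiv.Perm.mul_apply, hfix, ih]
      rw [this]
    have h2 : mapp 24 (projM g (n + 1)) z =
        Nat.xor (mapp 24 (prodM 24 gk (List.replicate n g)) z) (mapp 24 (projM g n) z) := by
      unfold mapp; exact mappTo_xor_left _ _ z 24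
    rw [h2, h1, projM_apply g z hz hfix n]
    rcases Nat.mod_two_eq_zero_or_one n with h | h
    · rw [if_neg (by omega), if_pos (by omega)]; exact Nat.xor_zero z
    · rw [if_pos h, if_neg (by omega)]; exact Nat.xor_self z

theorem span_mem {P : ℕ} {S : List ℕ} (h : spanOK P S = true) (z : ℕ) : mapp 24 P z ∈ S := by
  simp only [spanOK, Bool.and_eq_true, List.all_eq_true, List.mem_range, List.contains_iff_mem] at h
  have key : ∀ k ≤ 24, mappTo 24 P z k ∈ S := by
    intro k
    induction k with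
    | zero => intro _; exact h.1
    | succ k ih =>
      intro hk
      show (cond (Nat.testBit z k) (lk 24 P k) 0) ^^^ mappTo 24 P z k ∈ S
      cases Nat.testBit z k
      · rw [cond_false, Nat.zero_xor]; exact ih (by omega)
      · exact h.2 k (by omega) _ (ih (by omega))
  unfold mapp
  exact key 24 le_rfl

theorem fixed_mem {g n : ℕ} {S : List ℕ} (h : spanOK (projM g n) S = true) (hn : n % 2 = 1)
    {z : Fin (2 ^ 24)} (hfix : psi (yy g) z = z) : (z : ℕ) ∈ S := by
  have e := projM_apply g z z.2 hfix n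
  rw [if_pos hn] at e
  exact e ▸ span_mem h z

theorem reps_mem {S T : List ℕ} {R : List (List ℤ)} (h : repsOK S R T = true) {u : leechLattice}
    (hu : sqNorm (u : GolayPt → ℤ) = 32) (hS : (cls u : ℕ) ∈ S) : (cls u : ℕ) ∈ T := by
  simp only [repsOK, Bool.and_eq_true, decide_eq_true_eq, List.all_eq_true, List.mem_range, beq_iff_eq,
    Bool.or_eq_true, Bool.not_eq_true', beq_eq_false_iff_ne, List.contains_iff_mem] at h
  obtain ⟨k, hk, hke⟩ := List.getElem_of_mem hS
  obtain ⟨hb, hn, ht⟩ := h.2 k hk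
  rw [List.getD_eq_getElem _ _ hk, hke] at hb ht
  have hc : cls u = cls (comb (row (R.getD k []))) := Fin.ext (by rw [cls_comb, hb])
  have hw := eq_or_neg hc hu ((norm_comb _).trans_le hn)
  refine ht.resolve_left fun hne => hne ?_
  rw [← norm_comb]
  rcases hw with e | e <;> rw [e]
  · exact hu
  · simp only [sqNorm, AddSubgroup.coe_neg, Pi.neg_apply, neg_sq]
    exact hu

/-- The vector whose class is fixed by the element of order 23. -/
noncomputable def u0 : leechLattice := comb (row (repsA.getD 3 []))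

theorem norm_u0 : sqNorm (u0 : GolayPt → ℤ) = 32 := (norm_comb _).trans reps_ok.2.2.2

theorem cls_u0 : (cls u0 : ℕ) = xFix := by
  rw [u0, cls_comb, ← reps_ok.2.2.1]
  have h := reps_ok.1
  simp only [repsOK, Bool.and_eq_true, decide_eq_true_eq, List.all_eq_true, List.mem_range, beq_iff_eq] at h
  refine (h.2 3 ?_).1
  have := h.1
  unfold spanA
  norm_num

theorem fix_gA : psi gA (cls u0) = cls u0 := by
  refine Fin.ext ?_
  have e : psi gA = psi (valW yy [0]) := congrArg psi (by simp [valW, yy])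
  rw [e, ← (rep_word [0]) (cls u0), cls_u0, fix_ok.2.1]

theorem fix_gN : psi gN (cls u0) = cls u0 := by
  refine Fin.ext ?_
  have e : psi gN = psi (valW yy [1]) := congrArg psi (by simp [valW, yy])
  rw [e, ← (rep_word [1]) (cls u0), cls_u0, fix_ok.2.2.1]

theorem image_fixed {g : Spor.Co1} {c : Spor.Co1} (hc : Commute c g) (hg : psi g (cls u0) = cls u0) :
    ∃ v : leechLattice, sqNorm (v : GolayPt → ℤ) = 32 ∧ psi c (cls u0) = cls v ∧ psi g (cls v) = cls v := by
  induction c using QuotientGroup.induction_on with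
  | H c =>
    refine ⟨c • u0, (c.2.2 u0).trans norm_u0, psi_cls c u0, ?_⟩
    rw [← psi_cls, ← Equiv.Perm.mul_apply, ← map_mul, ← hc.eq, map_mul, Equiv.Perm.mul_apply, hg]

theorem cent_gA {c : Spor.Co1} (hc : Commute c gA) : c ∈ Subgroup.zpowers gA := by
  refine cent_stab norm_u0 (Or.inr rfl) fix_gA ?_ orderOf_gA hc
  obtain ⟨v, hv, e, hfix⟩ := image_fixed hc fix_gA
  have hm := reps_mem reps_ok.1 hv (fixed_mem (g := 0) span_ok.1 rfl hfix)
  rw [e]
  exact Fin.ext ((List.mem_singleton.1 hm).trans cls_u0.symm)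

theorem elWords_comm {w : List ℕ} (hw : w ∈ elWords) : Commute (valW yy w) gN := by
  simp only [elWords, List.mem_cons, List.not_mem_nil, or_false] at hw
  have hB := NB.symm
  have hC := NC.symm
  rcases hw with rfl | rfl | rfl | rfl | rfl | rfl <;> simp only [valW, List.map_cons, List.map_nil,
    List.prod_cons, List.prod_nil, mul_one, yy]
  · exact Commute.one_left _
  · exact hB
  · exact hC
  · exact hB.mul_left hC
  · exact hC.mul_left hB
  · exact hB.mul_left (hC.mul_left hB)

theorem cent_gN {c : Spor.Co1} (hc : Commute c gN) : ∃ w ∈ elWords, ∃ i : ℕ, c = valW yy w * gN ^ i := by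
  obtain ⟨v, hv, e, hfix⟩ := image_fixed hc fix_gN
  have hm := reps_mem reps_ok.2.1 hv (fixed_mem (g := 1) span_ok.2 rfl hfix)
  rw [← fix_ok.2.2.2.1, List.mem_map] at hm
  obtain ⟨w, hw, hwv⟩ := hm
  have himg : psi (valW yy w) (cls u0) = cls v := Fin.ext (by rw [← rep_word w (cls u0), cls_u0, hwv])
  have hd : Commute ((valW yy w)⁻¹ * c) gN := ((elWords_comm hw).inv_left).mul_left hc
  have hfixd : psi ((valW yy w)⁻¹ * c) (cls u0) = cls u0 := by
    rw [map_mul, Equiv.Perm.mul_apply, e, ← himg, map_inv, Equiv.Perm.inv_def, Equiv.symm_apply_apply]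
  haveI : Finite Spor.Co1 := Nat.finite_of_card_ne_zero (by rw [SmallGroups.LeechSimple.card_quotient_center]; norm_num)
  have hz := cent_stab norm_u0 (Or.inl rfl) fix_gN hfixd orderOf_gN hd
  obtain ⟨i, hi⟩ := mem_powers_iff_mem_zpowers.2 hz
  refine ⟨w, hw, i, ?_⟩
  rw [show gN ^ i = (valW yy w)⁻¹ * c from hi, mul_inv_cancel_left]

theorem involution_cent {c : Spor.Co1} (hc : Commute c gN) (h2 : c * c = 1) (h1 : c ≠ 1) :
    c = gB ∨ c = gC ∨ c = gB * (gC * gB) := by
  obtain ⟨w, hw, i, rfl⟩ := cent_gN hc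
  have hcw := elWords_comm hw
  rw [(hcw.symm.pow_left i).mul_mul_mul_comm, ← pow_add] at h2
  have hne : ∀ l ∈ [[2, 3, 2, 3], [3, 2, 3, 2]], psi (valW yy l) (cls u0) ≠ cls u0 := by
    intro l hl e
    have h := List.all_eq_true.1 fix_ok.2.2.2.2.1 l hl
    rw [Bool.not_eq_true', beq_eq_false_iff_ne] at h
    refine h ?_
    rw [← cls_u0, rep_word l (cls u0), e]
  have hN : ∀ k : ℕ, (psi gN ^ k) (cls u0) = cls u0 := by
    intro k
    induction k with
    | zero => simp
    | succ k ih => rw [pow_succ (psi gN) k, Equiv.Perm.mul_apply, fix_gN, ih]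
  have hsq : psi (valW yy w * valW yy w) (cls u0) = cls u0 := by
    have := congrArg (fun q => psi q (cls u0)) h2
    simpa [map_mul, Equiv.Perm.mul_apply, hN] using this
  have hk : ∀ z : Spor.Co1, z * z = 1 → valW yy w = z → valW yy w * gN ^ i = z := by
    intro z hz e
    rw [e, hz, one_mul] at h2
    have hd := orderOf_dvd_of_pow_eq_one h2
    rw [orderOf_gN] at hd
    have : (11 : ℕ) ∣ i := (Nat.Coprime.dvd_of_dvd_mul_left (by norm_num : Nat.Coprime 11 2) (by rwa [two_mul]))
    obtain ⟨t, rfl⟩ := this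
    rw [e, pow_mul, N_pow, one_pow, mul_one]
  simp only [elWords, List.mem_cons, List.not_mem_nil, or_false] at hw
  rcases hw with rfl | rfl | rfl | rfl | rfl | rfl
  · exact absurd (hk 1 (one_mul 1) rfl) h1
  · exact Or.inl (hk gB BB (by simp [valW, yy]))
  · exact Or.inr (Or.inl (hk gC CC (by simp [valW, yy])))
  · exact absurd (by simpa [valW, yy, mul_assoc] using hsq) (hne [2, 3, 2, 3] (by simp))
  · exact absurd (by simpa [valW, yy, mul_assoc] using hsq) (hne [3, 2, 3, 2] (by simp))
  · refine Or.inr (Or.inr (hk _ ?_ (by simp [valW, yy])))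
    calc gB * (gC * gB) * (gB * (gC * gB)) = gB * gC * (gB * gB) * gC * gB := by simp only [mul_assoc]
      _ = 1 := by rw [BB, mul_one, mul_assoc gB gC gC, CC, mul_one, BB]

end CfsgLib.Sporadic.OutCert.Co1
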