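import Cfsg.Agent.Lib.Sporadic.OutCert.Co1.Elts
import Cfsg.Agent.Lib.Sporadic.OutCert.Out

/-!
Every automorphism of the first Conway group is inner.
-/

set_option autoImplicit false
set_option maxRecDepth 10000

namespace CfsgLib.Sporadic.OutCert.Co1

open Cfsg CfsgLib.SmallGroups CfsgLib.Schur.Tails CfsgLib.Schur.Tails.Mat
open CfsgLib.Schur.Sporadic.Co1 (a0 a1 a2 a3 a4 psi psi_injective codes)

attribute [local irreducible] lk pkF mapp mmul tab1 tab2 kN kB kC

theorem codes_tail : codes.tail.getD 0 (oneM 24) = codes.getD 1 0 ∧ codes.tail.getD 1 (oneM 24) = codes.getD 2 0 ∧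
    codes.tail.getD 2 (oneM 24) = codes.getD 3 0 ∧ codes.tail.getD 3 (oneM 24) = codes.getD 4 0 := by
  unfold codes
  exact ⟨rfl, rfl, rfl, rfl⟩

attribute [local irreducible] codes

theorem closure_four : Subgroup.closure ({gA, gN, gB, gC} : Set Spor.Co1) = ⊤ := by
  set K := Subgroup.closure ({gA, gN, gB, gC} : Set Spor.Co1) with hK
  have hy : ∀ i < 4, yy i ∈ K := by
    intro i hi
    refine Subgroup.subset_closure ?_
    interval_cases i <;> simp [yy]
  let psiK : K →* Equiv.Perm (Fin (2 ^ 24)) := psi.comp K.subtype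
  have hbase : ∀ i < 4, ∃ q : K, RepM 24 (tab2.getD i (oneM 24)) (psiK q) := by
    intro i hi
    refine ⟨⟨yy i, hy i hi⟩, ?_⟩
    have e : tab2.getD i (oneM 24) = gk.getD i (oneM 24) := by
      rw [← slp2_ok.2.1]
      simp [List.getD_eq_getElem?_getD, hi]
    rw [e]
    exact rep_yy i
  have hmem := exists_pick psiK (exists_slp psiK hbase slp2_ok.1) (pick_of _ _ _ slp2_ok.2.2)
  have key : ∀ (k c : ℕ) (g : Co0), codes.tail.getD k (oneM 24) = c → RepM 24 c (psi (g : Spor.Co1)) →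
      (g : Spor.Co1) ∈ K := by
    intro k c g hk hg
    obtain ⟨q, hq⟩ := hmem k
    rw [hk] at hq
    rw [psi_injective (hg.inj hq)]
    exact q.2
  obtain ⟨e1, e2, e3, e4⟩ := codes_tail
  have hsub : ({a0, a1, a2, a3, a4} : Set Co0) ⊆ K.comap (QuotientGroup.mk' (Subgroup.center Co0)) := by
    rintro g (rfl | rfl | rfl | rfl | rfl)
    · exact hy 0 (by norm_num)
    · exact key 0 _ _ e1 Schur.Sporadic.Co1.rep_a1
    · exact key 1 _ _ e2 Schur.Sporadic.Co1.rep_a2
    · exact key 2 _ _ e3 Schur.Sporadic.Co1.rep_a3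
    · exact key 3 _ _ e4 Schur.Sporadic.Co1.rep_a4
  refine eq_top_iff.2 fun q _ => ?_
  induction q using QuotientGroup.induction_on with
  | H g =>
    have h := ((Subgroup.closure_le _).2 hsub) (closure_five.symm ▸ Subgroup.mem_top g)
    exact h

theorem exponents : ∀ j < 23, 0 < j → ∃ k < 11, j * 2 ^ k % 23 = 1 ∨ j * 2 ^ k % 23 = 5 := by decide +kernel

theorem conj_gN (k m : ℕ) : gN ^ k * gA ^ m * (gN ^ k)⁻¹ = gA ^ (m * 2 ^ k) := by
  have h1 : MulAut.conj gN gA = gA ^ 2 := by rw [MulAut.conj_apply, NA, mul_inv_cancel_right]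
  induction k generalizing m with
  | zero => simp
  | succ k ih =>
    calc gN ^ (k + 1) * gA ^ m * (gN ^ (k + 1))⁻¹
        = MulAut.conj gN (gN ^ k * gA ^ m * (gN ^ k)⁻¹) := by
          rw [MulAut.conj_apply, pow_succ']; group
      _ = gA ^ (m * 2 ^ (k + 1)) := by
          rw [ih, map_pow, h1, ← pow_mul]
          congr 1
          ring

theorem conj_l (l i : ℕ) : gA ^ l * (gN * gA ^ i) * (gA ^ l)⁻¹ = gN * gA ^ (12 * l + i) * (gA ^ l)⁻¹ := by
  have hp : ∀ k : ℕ, gN * gA ^ k = gA ^ (k * 2) * gN := fun k => by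
    have h1 := conj_gN 1 k
    rw [pow_one, pow_one] at h1
    exact mul_inv_eq_iff_eq_mul.1 h1
  have hl : gA ^ l * gN = gN * gA ^ (12 * l) := by
    rw [hp, show 12 * l * 2 = 23 * l + l by ring, pow_add, pow_mul, A_pow, one_pow, one_mul]
  rw [← mul_assoc (gA ^ l) gN, hl, mul_assoc gN, ← pow_add]

theorem rep_inv : ∀ i < 3, RepM 24 (invM.getD i (oneM 24)) (psi ([gB, gC, gB * (gC * gB)].getD i 1)) := by
  intro i hi
  interval_cases i
  · exact rep_yy 2
  · exact rep_yy 3
  · have h := rep_word [2, 3, 2]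
    rw [show valW yy [2, 3, 2] = gB * (gC * gB) by simp [valW, yy]] at h
    exact h

theorem not_all_tests (ε : MulAut Spor.Co1) {m i j : ℕ} (hm : m = 1 ∨ m = 5) (hi : i < 3) (hj : j < 3)
    (eA : ε gA = gA ^ m) (eN : ε gN = gN) (eB : ε gB = [gB, gC, gB * (gC * gB)].getD i 1)
    (eC : ε gC = [gB, gC, gB * (gC * gB)].getD j 1) : m = 1 ∧ i = 0 ∧ j = 1 := by
  have h := List.all_eq_true.1 (List.all_eq_true.1
    (List.all_eq_true.1 test_ok.2 m (by rcases hm with rfl | rfl <;> simp)) i (List.mem_range.2 hi)) j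
    (List.mem_range.2 hj)
  rw [Bool.or_eq_true, Bool.and_eq_true, Bool.and_eq_true, decide_eq_true_eq, decide_eq_true_eq,
    decide_eq_true_eq, List.any_eq_true] at h
  rcases h with ⟨⟨h1, h2⟩, h3⟩ | ⟨t, ht, hf⟩
  · exact ⟨h1, h2, h3⟩
  exfalso
  have hrep : ∀ k, RepM 24 ((subM m i j).getD k (oneM 24)) (psi (ε (yy k)))
    | 0 => by
      rw [show yy 0 = gA from rfl, eA, ← show valW yy (List.replicate m 0) = gA ^ m from word_replicate m 0]
      exact rep_word _
    | 1 => by rw [show yy 1 = gN from rfl, eN]; exact rep_yy 1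
    | 2 => by rw [show yy 2 = gB from rfl, eB]; exact rep_inv i hi
    | 3 => by rw [show yy 3 = gC from rfl, eC]; exact rep_inv j hj
    | n + 4 => by
      rw [show (subM m i j).getD (n + 4) (oneM 24) = oneM 24 from List.getD_eq_default _ _ (by simp [subM]),
        yy_big, map_one, map_one]
      exact rep_oneM
  have h1 : valW yy (powW t) = 1 := word_one (beq_iff_eq.1 (List.all_eq_true.1 test_ok.1 t ht))
  have h2 : valW (fun k => ε (yy k)) (powW t) = 1 := by
    have := congrArg ε h1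
    rw [map_one, valW, map_list_prod, List.map_map] at this
    exact this
  have h3 := rep_prodM psi hrep (powW t)
  rw [h2, map_one] at h3
  simp only [List.any_eq_true, List.mem_range, Bool.not_eq_true', beq_eq_false_iff_ne] at hf
  obtain ⟨b, hb, hf⟩ := hf
  exact hf (h3 ⟨2 ^ b, Nat.pow_lt_pow_right (by norm_num) hb⟩)

theorem six_ne : sixFix.getD 1 0 ≠ sixFix.getD 0 0 ∧ sixFix.getD 2 0 ≠ sixFix.getD 0 0 := by
  decide +kernel

theorem gB_ne : gB ≠ 1 := by
  intro e
  refine six_ne.1 ?_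
  rw [← fix_ok.2.2.2.1]
  simp only [elWords, List.map_cons, List.map_nil, List.getD_cons_succ, List.getD_cons_zero]
  rw [← cls_u0, rep_word [2] (cls u0), rep_word [] (cls u0), show valW yy [2] = 1 by simp [valW, yy, e], valW_nil]

theorem gC_ne : gC ≠ 1 := by
  intro e
  refine six_ne.2 ?_
  rw [← fix_ok.2.2.2.1]
  simp only [elWords, List.map_cons, List.map_nil, List.getD_cons_succ, List.getD_cons_zero]
  rw [← cls_u0, rep_word [3] (cls u0), rep_word [] (cls u0), show valW yy [3] = 1 by simp [valW, yy, e], valW_nil]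

theorem mem_inn (α : MulAut Spor.Co1) : α ∈ Inn Spor.Co1 := by
  haveI : Fact (Nat.Prime 23) := ⟨by norm_num⟩
  haveI : Finite Spor.Co1 := Nat.finite_of_card_ne_zero (by rw [LeechSimple.card_quotient_center]; norm_num)
  obtain ⟨g, j, hj0, hj, hg⟩ := exists_conj_pow (p := 23) (G := Spor.Co1)
    (by rw [LeechSimple.card_quotient_center]; norm_num) orderOf_gA ((MulEquiv.orderOf_eq α gA).trans orderOf_gA)
  obtain ⟨k, -, hk⟩ := exponents j hj hj0
  obtain ⟨m, hm15, hm⟩ : ∃ m, (m = 1 ∨ m = 5) ∧ (MulAut.conj (gN ^ k * g) * α) gA = gA ^ m := by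
    refine ⟨j * 2 ^ k % 23, hk, ?_⟩
    rw [MulAut.mul_apply, MulAut.conj_apply, ← orderOf_gA, pow_mod_orderOf, ← conj_gN k j, ← hg]
    group
  have hin : ∀ β : Spor.Co1, (MulAut.conj β * α) ∈ Inn Spor.Co1 → α ∈ Inn Spor.Co1 := by
    intro β h
    have := mul_mem (inv_mem (show MulAut.conj β ∈ Inn Spor.Co1 from ⟨β, rfl⟩)) h
    rwa [inv_mul_cancel_left] at this
  refine hin (gN ^ k * g) ?_
  generalize MulAut.conj (gN ^ k * g) * α = δ at hm
  clear hg hk hj0 hj hin g j k α
  obtain ⟨i, hi⟩ : ∃ i : ℕ, gN⁻¹ * δ gN = gA ^ i := by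
    suffices gN⁻¹ * δ gN ∈ Subgroup.zpowers gA by
      obtain ⟨i, hi⟩ := mem_powers_iff_mem_zpowers.2 this
      exact ⟨i, hi.symm⟩
    refine cent_gA ?_
    have hmul : δ gN * gA ^ m = gA ^ (m * 2) * δ gN := by
      have := congrArg δ NA
      rw [map_mul, map_mul, map_pow, hm, ← pow_mul] at this
      exact this
    have hc : Commute (gN⁻¹ * δ gN) (gA ^ m) := by
      have h4 : gN * gA ^ m = gA ^ (m * 2) * gN := by
        have h1 := conj_gN 1 m
        rw [pow_one, pow_one] at h1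
        exact mul_inv_eq_iff_eq_mul.1 h1
      show gN⁻¹ * δ gN * gA ^ m = gA ^ m * (gN⁻¹ * δ gN)
      rw [mul_assoc, hmul, ← mul_assoc, ← mul_assoc]
      congr 1
      rw [← mul_inv_eq_iff_eq_mul.2 h4]
      group
    rcases hm15 with rfl | rfl
    · rwa [pow_one] at hc
    · have := hc.pow_right 14
      rwa [← pow_mul, show 5 * 14 = 23 * 3 + 1 by norm_num, pow_succ, pow_mul, A_pow, one_pow, one_mul] at this
  have hN' : δ gN = gN * gA ^ i := by rw [← hi, mul_inv_cancel_left]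
  let ε := MulAut.conj (gA ^ (2 * i)) * δ
  have eA : ε gA = gA ^ m := by
    rw [MulAut.mul_apply, hm, MulAut.conj_apply, ← pow_add, add_comm, pow_add, mul_inv_cancel_right]
  have eN : ε gN = gN := by
    rw [MulAut.mul_apply, hN', MulAut.conj_apply, conj_l, show 12 * (2 * i) + i = 23 * i + 2 * i by ring,
      pow_add, pow_mul, A_pow, one_pow, one_mul, mul_inv_cancel_right]
  have inv_case : ∀ b : Spor.Co1, Commute gN b → b * b = 1 → b ≠ 1 →
      ∃ i < 3, ε b = [gB, gC, gB * (gC * gB)].getD i 1 := by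
    intro b hb h2 h1
    have hc : Commute (ε b) gN := by
      have := (hb.map ε.toMonoidHom).symm
      simpa [eN] using this
    rcases involution_cent hc (by rw [← map_mul, h2, map_one]) (by simpa using h1) with e | e | e
    · exact ⟨0, by norm_num, e⟩
    · exact ⟨1, by norm_num, e⟩
    · exact ⟨2, by norm_num, e⟩
  obtain ⟨ib, hib, eB⟩ := inv_case gB NB BB gB_ne
  obtain ⟨ic, hic, eC⟩ := inv_case gC NC CC gC_ne
  obtain ⟨rfl, rfl, rfl⟩ := not_all_tests ε hm15 hib hic eA eN eB eC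
  rw [pow_one] at eA
  have hε : ε = 1 := by
    have h : Set.EqOn ε.toMonoidHom (MonoidHom.id Spor.Co1) ({gA, gN, gB, gC} : Set Spor.Co1) := by
      rintro x (rfl | rfl | rfl | rfl)
      · exact eA
      · exact eN
      · exact eB
      · exact eC
    exact MulEquiv.ext fun x => DFunLike.congr_fun (MonoidHom.eq_of_eqOn_dense closure_four h) x
  rw [show δ = (MulAut.conj (gA ^ (2 * i)))⁻¹ from eq_inv_of_mul_eq_one_right hε]
  exact inv_mem ⟨_, rfl⟩

theorem card_out : Nat.card (Out Cfsg.Spor.Co1) = 1 := by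
  have : Subsingleton (Out Cfsg.Spor.Co1) := ⟨fun x y => by
    obtain ⟨α, rfl⟩ := QuotientGroup.mk_surjective x
    obtain ⟨β, rfl⟩ := QuotientGroup.mk_surjective y
    exact ((QuotientGroup.eq_one_iff α).2 (mem_inn α)).trans ((QuotientGroup.eq_one_iff β).2 (mem_inn β)).symm⟩
  exact Nat.card_unique

end CfsgLib.Sporadic.OutCert.Co1
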